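import Mathlib.RingTheory.RingHom.FaithfullyFlat
import Mathlib.RingTheory.Flat.EquationalCriterion
import Mathlib.Algebra.Category.Ring.Colimits
import Mathlib.Algebra.Category.Ring.FilteredColimits
import Mathlib.CategoryTheory.Limits.ConcreteCategory.Basic

/-!
A filtered colimit of faithfully flat ring maps is faithfully flat.
-/

universe u

open CategoryTheory Limits

noncomputable section

namespace Groth.Agent.Misc6.FFlatColim

variable {J : Type u} [SmallCategory J] [IsFiltered J] {C A : J ⥤ CommRingCat.{u}} (φ : C ⟶ A)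

theorem ι_map (F : J ⥤ CommRingCat.{u}) {i j : J} (f : i ⟶ j) (y : F.obj i) :
    colimit.ι F j (F.map f y) = colimit.ι F i y := by
  rw [← ConcreteCategory.comp_apply, colimit.w]

theorem exists_lift (F : J ⥤ CommRingCat.{u}) {α : Type} [Fintype α] (x : α → (colimit F : CommRingCat.{u})) :
    ∃ (j : J) (y : α → F.obj j), ∀ a, colimit.ι F j (y a) = x a := by
  classical
  choose i z hz using fun a => Concrete.colimit_exists_rep F (x a)
  obtain ⟨j, hj⟩ := IsFiltered.sup_objs_exists (Finset.univ.image i)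
  let f := fun a => (hj (Finset.mem_image.2 ⟨a, Finset.mem_univ a, rfl⟩)).some
  exact ⟨j, fun a => F.map (f a) (z a), fun a => by rw [ι_map, hz]⟩

theorem colimMap_ι (j : J) (c : C.obj j) :
    (colimMap φ) (colimit.ι C j c) = colimit.ι A j ((φ.app j) c) := by
  rw [← ConcreteCategory.comp_apply, ι_colimMap]
  rfl

theorem nat_apply {i j : J} (f : i ⟶ j) (c : C.obj i) :
    A.map f (φ.app i c) = φ.app j (C.map f c) := by
  rw [← ConcreteCategory.comp_apply, ← φ.naturality]
  rfl

theorem common {l : ℕ} (c : Fin l → (colimit C : CommRingCat.{u})) (x : Fin l → (colimit A : CommRingCat.{u})) :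
    ∃ (j : J) (c' : Fin l → C.obj j) (x' : Fin l → A.obj j),
      (∀ a, colimit.ι C j (c' a) = c a) ∧ ∀ a, colimit.ι A j (x' a) = x a := by
  obtain ⟨i, c', hc⟩ := exists_lift C c
  obtain ⟨i', x', hx⟩ := exists_lift A x
  exact ⟨IsFiltered.max i i', fun a => C.map (IsFiltered.leftToMax i i') (c' a),
    fun a => A.map (IsFiltered.rightToMax i i') (x' a), fun a => by rw [ι_map, hc], fun a => by rw [ι_map, hx]⟩

theorem faithfullyFlat (h : ∀ j : J, (φ.app j).hom.FaithfullyFlat) : (colimMap φ).hom.FaithfullyFlat := by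
  letI := (colimMap φ).hom.toAlgebra
  have hflat : Module.Flat (colimit C : CommRingCat.{u}) (colimit A : CommRingCat.{u}) := by
    refine Module.Flat.iff_forall_isTrivialRelation.2 fun {l} {c} {x} hrel => ?_
    obtain ⟨i, c₀, x₀, hc, hx⟩ := common c x
    have h0 : colimit.ι A i (∑ a, φ.app i (c₀ a) * x₀ a) = colimit.ι A i 0 := by
      rw [map_sum, map_zero, ← hrel]
      refine Finset.sum_congr rfl fun a _ => ?_
      rw [map_mul, ← colimMap_ι, hc, hx]
      rfl
    obtain ⟨k, f, g, hk⟩ := (Concrete.colimit_rep_eq_iff_exists A _ _).1 h0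
    letI := (φ.app k).hom.toAlgebra
    have : Module.FaithfullyFlat (C.obj k) (A.obj k) := h k
    have hr : ∑ a, C.map f (c₀ a) • A.map f (x₀ a) = 0 := by
      rw [map_sum, map_zero] at hk
      rw [← hk]
      refine Finset.sum_congr rfl fun a _ => ?_
      rw [map_mul, nat_apply]
      rfl
    obtain ⟨m, b, y, hy, hb⟩ := Module.Flat.isTrivialRelation_of_sum_smul_eq_zero hr
    refine ⟨m, fun a q => colimit.ι C k (b a q), fun q => colimit.ι A k (y q), fun a => ?_, fun q => ?_⟩
    · rw [← hx, ← ι_map A f, show A.map f (x₀ a) = _ from hy a, map_sum]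
      refine Finset.sum_congr rfl fun q _ => ?_
      show colimit.ι A k (φ.app k (b a q) * y q) = colimMap φ (colimit.ι C k (b a q)) * colimit.ι A k (y q)
      rw [map_mul, colimMap_ι]
    · rw [← map_zero (colimit.ι C k).hom, ← hb q, map_sum]
      refine Finset.sum_congr rfl fun a _ => ?_
      rw [map_mul, ι_map, hc]
  refine (Module.FaithfullyFlat.iff_flat_and_ideal_smul_eq_top _ _).2 ⟨hflat, fun I hI => ?_⟩
  rw [Ideal.smul_top_eq_map, Submodule.restrictScalars_eq_top_iff, Ideal.eq_top_iff_one] at hI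
  rw [Ideal.map, ← Ideal.submodule_span_eq, Submodule.mem_span_image_iff_exists_fun] at hI
  obtain ⟨t, ht, r, hr⟩ := hI
  obtain ⟨i, c₀, x₀, hc, hx⟩ := common (fun a => ((t.equivFin.symm a : t) : (colimit C : CommRingCat.{u})))
    (fun a => r (t.equivFin.symm a))
  have h1 : colimit.ι A i (∑ a, x₀ a * φ.app i (c₀ a)) = colimit.ι A i 1 := by
    rw [map_sum, map_one, ← hr, ← t.equivFin.symm.sum_comp]
    refine Finset.sum_congr rfl fun a _ => ?_
    rw [map_mul, ← colimMap_ι, hc, hx, smul_eq_mul]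
    rfl
  obtain ⟨k, f, g, hk⟩ := (Concrete.colimit_rep_eq_iff_exists A _ _).1 h1
  letI := (φ.app k).hom.toAlgebra
  have : Module.FaithfullyFlat (C.obj k) (A.obj k) := h k
  let I₀ : Ideal (C.obj k) := Ideal.span (Set.range fun a => C.map f (c₀ a))
  have hI₀ : I₀ = ⊤ := by
    refine ((Module.FaithfullyFlat.iff_flat_and_ideal_smul_eq_top (C.obj k) (A.obj k)).1 inferInstance).2 I₀ ?_
    rw [Ideal.smul_top_eq_map, Submodule.restrictScalars_eq_top_iff, Ideal.eq_top_iff_one]
    rw [map_sum, map_one] at hk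
    rw [← hk]
    refine sum_mem fun a _ => ?_
    rw [map_mul, nat_apply]
    exact Ideal.mul_mem_left _ _ (Ideal.mem_map_of_mem _ (Ideal.subset_span ⟨a, rfl⟩))
  have h2 : Ideal.map (colimit.ι C k).hom I₀ ≤ I := by
    rw [Ideal.map_span, Ideal.span_le]
    rintro _ ⟨_, ⟨a, rfl⟩, rfl⟩
    show colimit.ι C k (C.map f (c₀ a)) ∈ I
    rw [ι_map, hc]
    exact ht (t.equivFin.symm a).2
  rw [hI₀, Ideal.map_top] at h2
  exact top_le_iff.1 h2

end Groth.Agent.Misc6.FFlatColim

end
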