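import Groth.Agent.Mor.OpenGen
import Mathlib.AlgebraicGeometry.Morphisms.FormallyUnramified
import Mathlib.AlgebraicGeometry.Morphisms.Separated
import Mathlib.AlgebraicGeometry.Morphisms.Flat
import Mathlib.AlgebraicGeometry.PullbackCarrier
import Mathlib.AlgebraicGeometry.Fiber
import Mathlib.CategoryTheory.Monoidal.Cartesian.Grp

/-!
The diagonal of a group scheme versus its unit section; translations as shears.
-/

universe u

open CategoryTheory MonoidalCategory CartesianMonoidalCategory MonObj GrpObj AlgebraicGeometry Limits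

set_option linter.style.haveILetI false
set_option backward.isDefEq.respectTransparency.types false

noncomputable section

namespace Groth.Agent.Misc6.GrpDiag

variable {S : Scheme.{u}} {G : Over S} [GrpObj G]

theorem one_eq {X : Over S} : (1 : X ⟶ G) = toUnit X ≫ η[G] := Hom.one_def

/-- `η` is a pullback of the diagonal -/
theorem isPullback_unit :
    IsPullback η[G] η[G] (lift (𝟙 G) 1) (lift (𝟙 G) (𝟙 G)) := by
  refine ⟨⟨by simp [comp_lift, one_eq, toUnit_unique (η[G] ≫ toUnit G) (𝟙 _)]⟩, ⟨?_⟩⟩
  refine PullbackCone.IsLimit.mk _ (fun s => toUnit _) (fun s => ?_) (fun s => ?_)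
    (fun s m _ _ => toUnit_unique _ _)
  all_goals
    have h := s.condition
    rw [comp_lift, comp_lift] at h
    have h1 := congrArg (fun f => f ≫ fst G G) h
    have h2 := congrArg (fun f => f ≫ snd G G) h
    simp only [lift_fst, lift_snd, Category.comp_id, MonObj.comp_one] at h1 h2
    rw [← one_eq]
  · exact (h1.trans h2.symm).symm
  · exact h2

/-- the diagonal is a pullback of `η` -/
theorem isPullback_diag :
    IsPullback (lift (𝟙 G) (𝟙 G)) (toUnit G) (fst G G * (snd G G)⁻¹) η[G] := by
  refine ⟨⟨by rw [MonObj.comp_mul, GrpObj.comp_inv, lift_fst, lift_snd, mul_inv_cancel, one_eq]⟩, ⟨?_⟩⟩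
  refine PullbackCone.IsLimit.mk _ (fun s => s.fst ≫ fst G G) (fun s => ?_) (fun s => toUnit_unique _ _)
    (fun s m hm _ => by rw [← hm, Category.assoc, lift_fst, Category.comp_id])
  have h := s.condition
  rw [MonObj.comp_mul, GrpObj.comp_inv, toUnit_unique s.snd (toUnit _), ← one_eq, mul_inv_eq_one] at h
  apply CartesianMonoidalCategory.hom_ext
  · simp
  · simp [h]

theorem isPullback_left {A B C D : Over S} {f : A ⟶ B} {g : A ⟶ C} {h : B ⟶ D} {i : C ⟶ D}
    (H : IsPullback f g h i) : IsPullback f.left g.left h.left i.left :=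
  H.map (Over.forget S)

theorem lift_id_left : (lift (𝟙 G) (𝟙 G)).left = pullback.diagonal G.hom := by
  apply pullback.hom_ext
  · exact (congrArg Over.Hom.left (lift_fst (𝟙 G) (𝟙 G))).trans (pullback.diagonal_fst _).symm
  · exact (congrArg Over.Hom.left (lift_snd (𝟙 G) (𝟙 G))).trans (pullback.diagonal_snd _).symm

theorem diagonal_iff (P : MorphismProperty Scheme.{u}) [P.IsStableUnderBaseChange] :
    P (pullback.diagonal G.hom) ↔ P η[G].left := by
  rw [← lift_id_left]
  exact ⟨fun h => MorphismProperty.of_isPullback (isPullback_left (isPullback_unit (G := G))).flip h,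
    fun h => MorphismProperty.of_isPullback (isPullback_left (isPullback_diag (G := G))).flip h⟩

theorem isSeparated_iff' : (IsSeparated G.hom ↔ IsClosedImmersion η[G].left) ∧
    (QuasiSeparated G.hom ↔ QuasiCompact η[G].left) := by
  constructor
  · rw [← diagonal_iff (G := G) @IsClosedImmersion]
    exact ⟨fun h => h.isClosedImmersion_diagonal, fun h => ⟨h⟩⟩
  · rw [← diagonal_iff (G := G) @QuasiCompact]
    exact quasiSeparated_iff _

theorem formallyUnramified_iff' [LocallyOfFiniteType G.hom] :
    FormallyUnramified G.hom ↔ IsOpenImmersion η[G].left := by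
  rw [← diagonal_iff (G := G) @IsOpenImmersion]
  exact ⟨fun _ => inferInstance, fun _ => inferInstance⟩

/-- left translation by a point -/
def lmul {T : Over S} (t : T ⟶ G) : T ⊗ G ≅ T ⊗ G where
  hom := lift (fst T G) ((fst T G ≫ t) * snd T G)
  inv := lift (fst T G) ((fst T G ≫ t)⁻¹ * snd T G)
  hom_inv_id := by
    ext1
    · simp
    · simp [MonObj.comp_mul, GrpObj.comp_inv]
  inv_hom_id := by
    ext1
    · simp
    · simp [MonObj.comp_mul, GrpObj.comp_inv]

theorem lmul_snd {T : Over S} (ψ : T ⟶ G) : (lmul ψ).hom ≫ snd T G = ψ ▷ G ≫ μ[G] := by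
  simp [lmul, Hom.mul_def]
  rw [← Category.id_comp (ψ ▷ G), ← lift_fst_snd, lift_whiskerRight]

theorem isPullback_snd (T : Over S) : IsPullback (fst T G).left (snd T G).left T.hom G.hom :=
  IsPullback.of_hasPullback T.hom G.hom

theorem flat_translate (T : Over S) (ψ : T ⟶ G) (hT : Flat T.hom) : Flat (ψ ▷ G ≫ μ[G]).left := by
  rw [← lmul_snd, Over.comp_left]
  have : IsIso (lmul ψ).hom.left := inferInstanceAs (IsIso ((Over.forget _).map (lmul ψ).hom))
  have : Flat (snd T G).left := MorphismProperty.of_isPullback (P := @Flat) (isPullback_snd T) hT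
  infer_instance

theorem flat_mul (h : Flat G.hom) : Flat μ[G].left := by
  have := flat_translate G (𝟙 G) h
  rwa [MonoidalCategory.id_whiskerRight, Category.id_comp] at this

section Field

variable {K : Type u} [Field K] {G : Over (Spec (CommRingCat.of K))} [GrpObj G]

theorem isOpenMap_translate (T : Over (Spec (CommRingCat.of K))) (ψ : T ⟶ G) :
    IsOpenMap (ψ ▷ G ≫ μ[G]).left := by
  rw [← lmul_snd, Over.comp_left]
  have : IsIso (lmul ψ).hom.left := inferInstanceAs (IsIso ((Over.forget _).map (lmul ψ).hom))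
  haveI : Subsingleton ↥(Spec (CommRingCat.of K)) := inferInstanceAs (Subsingleton (PrimeSpectrum K))
  have : UniversallyOpen T.hom := Mor.OpenGen.universallyOpen_of_subsingleton T.hom
  have : UniversallyOpen (snd T G).left :=
    MorphismProperty.of_isPullback (P := @UniversallyOpen) (isPullback_snd T) this
  exact ((lmul ψ).hom.left ≫ (snd T G).left).isOpenMap

theorem isOpenMap_mul : IsOpenMap μ[G].left := by
  have := isOpenMap_translate G (𝟙 G)
  rwa [MonoidalCategory.id_whiskerRight, Category.id_comp] at this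

theorem isOpen_range_translate (T : Over (Spec (CommRingCat.of K))) (ψ : T ⟶ G) (W : G.left.Opens) :
    IsOpen (Set.range ((ψ ⊗ₘ (Over.homMk W.ι rfl : Over.mk (W.ι ≫ G.hom) ⟶ G)) ≫ μ[G]).left) := by
  rw [MonoidalCategory.tensorHom_def', Category.assoc, Over.comp_left]
  have : IsOpenImmersion ((T ◁ (Over.homMk W.ι rfl : Over.mk (W.ι ≫ G.hom) ⟶ G)).left) := by
    have hsq : IsPullback (T ◁ (Over.homMk W.ι rfl : Over.mk (W.ι ≫ G.hom) ⟶ G)).left
        (snd T (Over.mk (W.ι ≫ G.hom))).left (snd T G).left W.ι := by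
      refine IsPullback.of_right ?_ ?_ (isPullback_snd T)
      · rw [show (T ◁ (Over.homMk W.ι rfl : Over.mk (W.ι ≫ G.hom) ⟶ G)).left ≫ (fst T G).left =
          (fst T (Over.mk (W.ι ≫ G.hom))).left from congrArg Over.Hom.left (whiskerLeft_fst _ _)]
        exact isPullback_snd' T _
      · exact congrArg Over.Hom.left (whiskerLeft_snd T (Over.homMk W.ι rfl : Over.mk (W.ι ≫ G.hom) ⟶ G))
    exact MorphismProperty.of_isPullback (P := @IsOpenImmersion) hsq.flip inferInstance
  show IsOpen (Set.range ((ψ ▷ G ≫ μ[G]).left ∘ (T ◁ (Over.homMk W.ι rfl : Over.mk (W.ι ≫ G.hom) ⟶ G)).left))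
  rw [Set.range_comp]
  exact isOpenMap_translate T ψ _ ((T ◁ (Over.homMk W.ι rfl : Over.mk (W.ι ≫ G.hom) ⟶ G)).left.isOpenEmbedding.isOpen_range)
where
  isPullback_snd' (T W : Over (Spec (CommRingCat.of K))) :
      IsPullback (fst T W).left (snd T W).left T.hom W.hom :=
    IsPullback.of_hasPullback T.hom W.hom

end Field

end Groth.Agent.Misc6.GrpDiag

end
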